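/-
A Sylow subgroup whose nonidentity elements all have the same centralizer: group facts
(namespace `Cfsg.Agent.UniformCentralizer`).

Main results: `Uni`, `exists_power`, `conj_mem_P`, `mem_normalizer_of_conj_mem`, `relIndex_dvd`.
-/
import Cfsg.Agent.EqLemmas
import Mathlib.GroupTheory.Sylow
import Mathlib.Data.Nat.GCD.Basic
import Mathlib.Data.Nat.ModEq
import Mathlib.GroupTheory.GroupAction.Quotient

set_option autoImplicit false
set_option linter.unusedSectionVars false
set_option linter.style.haveILetI false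

namespace Cfsg.Agent.UniformCentralizer

variable {G : Type*} [Group G] [Finite G] {p : ℕ} [Fact p.Prime]

/-- Every nonidentity element of `P` has the centralizer of `P`. -/
def Uni (P : Sylow p G) : Prop :=
  ∀ x ∈ (P : Subgroup G), x ≠ 1 → Subgroup.centralizer ({x} : Set G) = Subgroup.centralizer ((P : Subgroup G) : Set G)

/-- The centralizer of `P`. -/
abbrev C (P : Sylow p G) : Subgroup G := Subgroup.centralizer ((P : Subgroup G) : Set G)

/-- The normalizer of `P`. -/
abbrev N (P : Sylow p G) : Subgroup G := Subgroup.normalizer ((P : Subgroup G) : Set G)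

variable {P : Sylow p G} (hU : Uni P)

theorem C_le_N : C P ≤ N P := Subgroup.centralizer_le_normalizer _

theorem conj_mem_C {h c : G} (hh : h ∈ N P) (hc : c ∈ C P) : h * c * h⁻¹ ∈ C P := by
  rw [Subgroup.mem_centralizer_iff] at hc ⊢
  intro z hz
  have hz' : h⁻¹ * z * h ∈ (P : Subgroup G) := (Subgroup.mem_normalizer_iff''.mp hh z).mp hz
  have e := hc _ hz'
  calc z * (h * c * h⁻¹) = h * ((h⁻¹ * z * h) * c) * h⁻¹ := by group
    _ = h * (c * (h⁻¹ * z * h)) * h⁻¹ := by rw [e]
    _ = h * c * h⁻¹ * z := by group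

theorem card_N_eq : Nat.card (N P) = (C P).relIndex (N P) * Nat.card (C P) := by
  rw [Subgroup.relIndex, mul_comm, ← Nat.card_congr (Subgroup.subgroupOfEquivOfLe (C_le_N (P := P))).toEquiv,
    Subgroup.card_mul_index]

theorem relIndex_pos : 0 < (C P).relIndex (N P) := Nat.pos_of_ne_zero fun h => by
  have := card_N_eq (P := P)
  rw [h, zero_mul] at this
  exact Nat.card_pos.ne' this

include hU

theorem P_le_C : (P : Subgroup G) ≤ C P := by
  intro y hy
  rcases eq_or_ne y 1 with rfl | hy1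
  · exact one_mem _
  · rw [C, ← hU y hy hy1]
    exact Subgroup.mem_centralizer_singleton_iff.mpr rfl

/-- The projection of the centralizer on `P` is a power map. -/
theorem exists_power : ∃ k : ℕ, (∀ c ∈ C P, c ^ k ∈ (P : Subgroup G)) ∧ ∀ y ∈ (P : Subgroup G), y ^ k = y := by
  have hPC := P_le_C hU
  set P' := (P : Subgroup G).subgroupOf (C P) with hP'
  haveI : P'.Normal := ⟨fun y hy c => by
    rw [hP', Subgroup.mem_subgroupOf] at hy ⊢
    rw [show ((c * y * c⁻¹ : C P) : G) = (y : G) by
      rw [Subgroup.coe_mul, Subgroup.coe_mul, Subgroup.coe_inv, ← Subgroup.mem_centralizer_iff.mp c.2 _ hy,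
        mul_inv_cancel_right]]
    exact hy⟩
  have hm : P'.index ∣ (P : Subgroup G).index := Subgroup.relIndex_dvd_index_of_le hPC
  obtain ⟨n, hn⟩ := IsPGroup.iff_card.mp P.isPGroup'
  have hco : Nat.Coprime P'.index (Nat.card (P : Subgroup G)) := by
    rw [hn]
    refine Nat.Coprime.pow_right n (Nat.coprime_comm.mp ((Fact.out : p.Prime).coprime_iff_not_dvd.mpr fun h => ?_))
    exact P.not_dvd_index (h.trans hm)
  obtain ⟨k, hk0, hk1⟩ := Nat.chineseRemainder hco 0 1
  refine ⟨k, fun c hc => ?_, fun y hy => ?_⟩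
  · obtain ⟨u, rfl⟩ := Nat.modEq_zero_iff_dvd.mp hk0
    rw [pow_mul]
    refine pow_mem ?_ u
    exact Subgroup.mem_subgroupOf.mp (Subgroup.pow_index_mem P' (⟨c, hc⟩ : C P))
  · have h : (⟨y, hy⟩ : (P : Subgroup G)) ^ k = ⟨y, hy⟩ := by
      have e := (pow_eq_pow_iff_modEq (x := (⟨y, hy⟩ : (P : Subgroup G))) (n := k) (m := 1)).mpr
        (hk1.of_dvd (orderOf_dvd_natCard _))
      rwa [pow_one] at e
    exact congrArg Subtype.val h

/-- An element of the centralizer conjugate to an element of `P` lies in `P`. -/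
theorem conj_mem_P {h y : G} (hy : y ∈ (P : Subgroup G)) (hc : h * y * h⁻¹ ∈ C P) :
    h * y * h⁻¹ ∈ (P : Subgroup G) := by
  obtain ⟨k, hk, hk'⟩ := exists_power hU
  have := hk _ hc
  rwa [conj_pow, hk' y hy] at this

theorem mem_normalizer_of_conj_mem {h y : G} (hy : y ∈ (P : Subgroup G)) (hy1 : y ≠ 1)
    (hm : h * y * h⁻¹ ∈ (P : Subgroup G)) : h ∈ N P := by
  have hne : h * y * h⁻¹ ≠ 1 := fun e => hy1 (conj_eq_one_iff.mp e)
  have hle : ∀ z ∈ (P : Subgroup G), h * z * h⁻¹ ∈ (P : Subgroup G) := by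
    intro z hz
    refine conj_mem_P hU hz ?_
    rw [C, ← hU _ hm hne, Subgroup.mem_centralizer_singleton_iff]
    have e : z * y = y * z := (Subgroup.mem_centralizer_iff.mp (P_le_C hU hy) z hz)
    calc h * z * h⁻¹ * (h * y * h⁻¹) = h * (z * y) * h⁻¹ := by group
      _ = h * (y * z) * h⁻¹ := by rw [e]
      _ = h * y * h⁻¹ * (h * z * h⁻¹) := by group
  have hmap : (P : Subgroup G).map (MulAut.conj h).toMonoidHom = (P : Subgroup G) := by
    refine Subgroup.eq_of_le_of_card_ge ?_ (le_of_eq ?_)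
    · rintro _ ⟨z, hz, rfl⟩
      exact hle z hz
    · exact (Subgroup.card_map_of_injective (MulAut.conj h).injective).symm
  rw [Subgroup.mem_normalizer_iff]
  refine fun z => ⟨hle z, fun hz => ?_⟩
  have : h * z * h⁻¹ ∈ (P : Subgroup G).map (MulAut.conj h).toMonoidHom := hmap.symm ▸ hz
  obtain ⟨w, hw, he⟩ := this
  rwa [← show w = z from (MulAut.conj h).injective he]

theorem mem_C_of_conj_eq {g z : G} (hz : z ∈ (P : Subgroup G)) (hz1 : z ≠ 1) (he : g * z * g⁻¹ = z) : g ∈ C P := by
  rw [C, ← hU z hz hz1, Subgroup.mem_centralizer_singleton_iff]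
  exact mul_inv_eq_iff_eq_mul.mp he

/-- The normalizer acts semiregularly modulo the centralizer. -/
theorem relIndex_dvd : (C P).relIndex (N P) ∣ Nat.card (P : Subgroup G) - 1 := by
  classical
  letI : MulAction (N P) {y : (P : Subgroup G) // y ≠ 1} :=
    { smul := fun h y => ⟨⟨(h : G) * y.1.1 * (h : G)⁻¹, (Subgroup.mem_normalizer_iff.mp h.2 _).mp y.1.2⟩,
        fun e => y.2 (Subtype.ext (conj_eq_one_iff.mp (congrArg Subtype.val e :)))⟩
      one_smul := fun y => Subtype.ext (Subtype.ext (show ((1 : N P) : G) * y.1.1 * ((1 : N P) : G)⁻¹ = _ by simp))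
      mul_smul := fun g h y => Subtype.ext (Subtype.ext
        (show ((g * h : N P) : G) * y.1.1 * ((g * h : N P) : G)⁻¹ = (g : G) * ((h : G) * y.1.1 * (h : G)⁻¹) * (g : G)⁻¹ by
          push_cast; group)) }
  have hst : ∀ y : {y : (P : Subgroup G) // y ≠ 1}, MulAction.stabilizer (N P) y = (C P).subgroupOf (N P) := by
    intro y
    ext h
    rw [MulAction.mem_stabilizer_iff, Subgroup.mem_subgroupOf]
    constructor
    · intro e
      exact mem_C_of_conj_eq hU y.1.2 (fun e1 => y.2 (Subtype.ext e1)) (congrArg (fun w => w.1.1) e :)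
    · intro hh
      refine Subtype.ext (Subtype.ext ?_)
      show (h : G) * y.1.1 * (h : G)⁻¹ = y.1.1
      rw [← Subgroup.mem_centralizer_iff.mp hh _ y.1.2, mul_inv_cancel_right]
  haveI : Finite (MulAction.orbitRel.Quotient (N P) {y : (P : Subgroup G) // y ≠ 1}) := inferInstance
  haveI := Fintype.ofFinite (MulAction.orbitRel.Quotient (N P) {y : (P : Subgroup G) // y ≠ 1})
  have hcard : Nat.card {y : (P : Subgroup G) // y ≠ 1} =
      Fintype.card (MulAction.orbitRel.Quotient (N P) {y : (P : Subgroup G) // y ≠ 1}) * (C P).relIndex (N P) := by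
    rw [Nat.card_congr (MulAction.selfEquivSigmaOrbitsQuotientStabilizer (N P) _), Nat.card_sigma,
      Finset.sum_congr rfl (g := fun _ => (C P).relIndex (N P)) fun q _ => ?_, Finset.sum_const, Finset.card_univ,
      smul_eq_mul]
    show (MulAction.stabilizer (N P) q.out).index = _
    rw [hst, Subgroup.relIndex]
  have h1 : Nat.card {y : (P : Subgroup G) // y ≠ 1} = Nat.card (P : Subgroup G) - 1 := by
    haveI := Fintype.ofFinite (P : Subgroup G)
    rw [Nat.card_eq_fintype_card, Nat.card_eq_fintype_card, Fintype.card_subtype_compl, Fintype.card_subtype_eq]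
  exact ⟨_, h1.symm.trans (hcard.trans (mul_comm _ _))⟩

end Cfsg.Agent.UniformCentralizer
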