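/-
A Sylow subgroup whose nonidentity elements all have the same centralizer: the variance inequality
(namespace `Cfsg.Agent.UniformCentralizer`).

Main results: `sum_conj_le`, `variance_lt`, `exists_orbit`.
-/
import Cfsg.Agent.Lib.UniformCentralizer.Basic
import Cfsg.Agent.Lib.Char.Inner
import Cfsg.Agent.Lib.SecondMain.Support
import Cfsg.Agent.Lib.Codegree.Basic
import Cfsg.Agent.Lib.TwoClassChar.Basic

set_option autoImplicit false
set_option linter.unusedSectionVars false
set_option linter.style.haveILetI false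

open scoped ComplexConjugate

namespace Cfsg.Agent.UniformCentralizer

open Cfsg Cfsg.Agent.TwoClassChar

variable {G : Type*} [Group G] [Fintype G] {p : ℕ} [Fact p.Prime] {P : Sylow p G} (hU : Uni P)

theorem sum_normSq_eq {H : Type*} [Group H] [Fintype H] [Fintype (IrrCharacter H)] (m : IrrCharacter H → ℝ) :
    ∑ c : H, Complex.normSq (∑ η : IrrCharacter H, (m η : ℂ) * (η : H → ℂ) c) =
      (Nat.card H : ℝ) * ∑ η : IrrCharacter H, m η ^ 2 := by
  apply Complex.ofReal_injective
  push_cast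
  set u : H → ℂ := ∑ η : IrrCharacter H, (m η : ℂ) • (η : H → ℂ) with hu
  have h := Char.card_mul_classInner u u
  have h2 : classInner u u = ∑ η : IrrCharacter H, (m η : ℂ) ^ 2 := by
    conv_lhs => arg 2; rw [hu]
    rw [Char.classInner_sum_right]
    refine Finset.sum_congr rfl fun η _ => ?_
    rw [Char.classInner_smul_right, hu, Char.classInner_sum_smul _ _ η (Finset.mem_univ η), Complex.conj_ofReal, pow_two]
  rw [h2] at h
  rw [h]
  refine Finset.sum_congr rfl fun c _ => ?_
  rw [Complex.mul_conj, hu, Finset.sum_apply]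
  simp only [Pi.smul_apply, smul_eq_mul]

include hU

open scoped Classical in
/-- The part of the norm of a class function on the conjugates of the elements with nontrivial `P` part. -/
theorem sum_conj_le {k : ℕ} (hk : ∀ c ∈ C P, c ^ k ∈ (P : Subgroup G))
    {u : G → ℂ} (hu : ∀ g h : G, u (h * g * h⁻¹) = u g) :
    (N P).index * (∑ c ∈ Finset.univ.filter (fun c : C P => (c : G) ^ k ≠ 1), Complex.normSq (u c)) +
      Complex.normSq (u 1) ≤ ∑ g : G, Complex.normSq (u g) := by
  set D := Finset.univ.filter (fun c : C P => (c : G) ^ k ≠ 1) with hD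
  haveI : Fintype (G ⧸ N P) := Fintype.ofFinite _
  let T : (G ⧸ N P) × C P → G := fun a => a.1.out * (a.2 : G) * a.1.out⁻¹
  have hT : Set.InjOn T ((Finset.univ ×ˢ D : Finset ((G ⧸ N P) × C P)) : Set _) := by
    rintro ⟨x, d⟩ hd ⟨x', d'⟩ hd' h
    simp only [Finset.coe_product, Finset.coe_univ, Set.mem_prod, Set.mem_univ, true_and, Finset.mem_coe, hD,
      Finset.mem_filter, Finset.mem_univ] at hd hd'
    have e : (x'.out⁻¹ * x.out) * (d : G) * (x'.out⁻¹ * x.out)⁻¹ = (d' : G) := by
      have h' : x.out * (d : G) * x.out⁻¹ = x'.out * (d' : G) * x'.out⁻¹ := h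
      calc _ = x'.out⁻¹ * (x.out * (d : G) * x.out⁻¹) * x'.out := by group
        _ = x'.out⁻¹ * (x'.out * (d' : G) * x'.out⁻¹) * x'.out := by rw [h']
        _ = _ := by group
    have hN := mem_normalizer_of_conj_mem hU (hk _ d.2) hd (h := x'.out⁻¹ * x.out) (by
      rw [← conj_pow, e]; exact hk _ d'.2)
    have hx : x' = x := by
      rw [← QuotientGroup.out_eq' x', ← QuotientGroup.out_eq' x, QuotientGroup.eq]
      exact hN
    subst hx
    simp only [inv_mul_cancel, one_mul, inv_one, mul_one] at e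
    rw [Subtype.ext e]
  have h1 : ∑ a ∈ (Finset.univ ×ˢ D : Finset ((G ⧸ N P) × C P)), Complex.normSq (u (T a)) =
      (N P).index * ∑ c ∈ D, Complex.normSq (u c) := by
    simp only [Finset.sum_product, T, hu, Finset.sum_const, nsmul_eq_mul, Finset.card_univ, Subgroup.index,
      Nat.card_eq_fintype_card]
  have hnot : (1 : G) ∉ (Finset.univ ×ˢ D : Finset ((G ⧸ N P) × C P)).image T := by
    intro h
    obtain ⟨⟨x, d⟩, hd, he⟩ := Finset.mem_image.mp h
    simp only [Finset.mem_product, Finset.mem_univ, true_and, hD, Finset.mem_filter] at hd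
    exact hd (by rw [show (d : G) = 1 from conj_eq_one_iff.mp he, one_pow])
  rw [← h1, ← Finset.sum_image hT (f := fun g => Complex.normSq (u g)),
    add_comm, ← Finset.sum_insert (f := fun g => Complex.normSq (u g)) hnot]
  exact Finset.sum_le_sum_of_subset_of_nonneg (Finset.subset_univ _) fun g _ _ => Complex.normSq_nonneg _

open scoped Classical in
/-- The elements with trivial `P` part carry at most the square of the total multiplicity. -/
theorem sum_trivial_part_le {k : ℕ} (hk : ∀ c ∈ C P, c ^ k ∈ (P : Subgroup G))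
    (hk' : ∀ y ∈ (P : Subgroup G), y ^ k = y) [Fintype (IrrCharacter (C P))]
    (m : IrrCharacter (C P) → ℝ) (hm : ∀ η, 0 ≤ m η) :
    ∑ c ∈ Finset.univ.filter (fun c : C P => (c : G) ^ k = 1),
        Complex.normSq (∑ η : IrrCharacter (C P), (m η : ℂ) * (η : C P → ℂ) c) ≤
      (Nat.card (C P) : ℝ) / Nat.card (P : Subgroup G) * (∑ η : IrrCharacter (C P), m η) ^ 2 := by
  set V := Finset.univ.filter (fun c : C P => (c : G) ^ k = 1) with hV
  haveI := Fintype.ofFinite (P : Subgroup G)
  have hq : (0 : ℝ) < Nat.card (P : Subgroup G) := by exact_mod_cast Nat.card_pos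
  have hη : ∀ η : IrrCharacter (C P), ∑ v ∈ V, Complex.normSq ((η : C P → ℂ) v) =
      (Nat.card (C P) : ℝ) / Nat.card (P : Subgroup G) := by
    intro η
    have hnorm := sum_normSq_eq (H := C P) (fun φ => if φ = η then 1 else 0)
    simp only [apply_ite Complex.ofReal, Complex.ofReal_one, Complex.ofReal_zero, ite_mul, one_mul, zero_mul,
      Finset.sum_ite_eq', Finset.mem_univ, if_true, ite_pow, one_pow, ne_eq, OfNat.ofNat_ne_zero, not_false_eq_true,
      zero_pow, mul_one] at hnorm
    have hscal : ∀ (y : (P : Subgroup G)) (v : C P),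
        Complex.normSq ((η : C P → ℂ) (⟨y.1, P_le_C hU y.2⟩ * v)) = Complex.normSq ((η : C P → ℂ) v) := by
      intro y v
      obtain ⟨s, hs, hsv⟩ := SecondMain.exists_central_scalar (z := (⟨y.1, P_le_C hU y.2⟩ : C P))
        (Subgroup.mem_center_iff.mpr fun c => Subtype.ext (Subgroup.mem_centralizer_iff.mp c.2 _ y.2).symm) η
      rw [hsv, Complex.normSq_mul, Complex.normSq_eq_norm_sq s,
        Complex.norm_eq_one_of_pow_eq_one hs (orderOf_pos _).ne', one_pow, one_mul]
    have hsum : ∑ c : C P, Complex.normSq ((η : C P → ℂ) c) =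
        ∑ a ∈ (Finset.univ ×ˢ V : Finset (↥(P : Subgroup G) × C P)), Complex.normSq ((η : C P → ℂ) a.2) := by
      refine (Finset.sum_nbij' (fun a => ⟨a.1.1, P_le_C hU a.1.2⟩ * a.2)
        (fun c => (⟨(c : G) ^ k, hk _ c.2⟩, ⟨(c : G) ^ k, P_le_C hU (hk _ c.2)⟩⁻¹ * c))
        (fun a _ => Finset.mem_univ _) (fun c _ => ?_) (fun a ha => ?_) (fun c _ => ?_) (fun a _ => ?_)).symm
      · refine Finset.mem_product.mpr ⟨Finset.mem_univ _, Finset.mem_filter.mpr ⟨Finset.mem_univ _, ?_⟩⟩
        show (((c : G) ^ k)⁻¹ * (c : G)) ^ k = 1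
        have hcm : Commute ((c : G) ^ k)⁻¹ (c : G) := ((Commute.refl (c : G)).pow_left k).inv_left
        rw [hcm.mul_pow, inv_pow, hk' _ (hk _ c.2), inv_mul_cancel]
      · simp only [Finset.mem_product, hV, Finset.mem_filter, Finset.mem_univ, true_and] at ha
        have hcm : Commute a.1.1 (a.2 : G) := Subgroup.mem_centralizer_iff.mp a.2.2 _ a.1.2
        have e : ((⟨a.1.1, P_le_C hU a.1.2⟩ * a.2 : C P) : G) ^ k = a.1.1 := by
          show (a.1.1 * (a.2 : G)) ^ k = _
          rw [hcm.mul_pow, ha, mul_one, hk' _ a.1.2]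
        refine Prod.ext (Subtype.ext e) (Subtype.ext ?_)
        show (((⟨a.1.1, P_le_C hU a.1.2⟩ * a.2 : C P) : G) ^ k)⁻¹ * (a.1.1 * (a.2 : G)) = (a.2 : G)
        rw [e, inv_mul_cancel_left]
      · exact mul_inv_cancel_left _ _
      · rw [hscal]
    rw [Finset.sum_product] at hsum
    dsimp only at hsum
    rw [Finset.sum_const, Finset.card_univ, nsmul_eq_mul, ← Nat.card_eq_fintype_card] at hsum
    rw [eq_div_iff hq.ne', ← hnorm, hsum]
    ring
  calc ∑ v ∈ V, Complex.normSq (∑ η : IrrCharacter (C P), (m η : ℂ) * (η : C P → ℂ) v)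
      ≤ ∑ v ∈ V, (∑ η : IrrCharacter (C P), m η) * ∑ η : IrrCharacter (C P), m η * Complex.normSq ((η : C P → ℂ) v) := by
        refine Finset.sum_le_sum fun v _ => ?_
        rw [Complex.normSq_eq_norm_sq]
        refine le_trans (pow_le_pow_left₀ (norm_nonneg _) (norm_sum_le _ _) 2) ?_
        refine Finset.sum_sq_le_sum_mul_sum_of_sq_eq_mul _ (fun i _ => hm i)
          (fun i _ => mul_nonneg (hm i) (Complex.normSq_nonneg _)) fun i _ => ?_
        rw [norm_mul, Complex.norm_real, Real.norm_of_nonneg (hm i), Complex.normSq_eq_norm_sq]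
        ring
    _ = _ := by
      rw [← Finset.mul_sum, Finset.sum_comm]
      simp only [← Finset.mul_sum, hη, ← Finset.sum_mul]
      ring

/-- The variance inequality. -/
theorem variance_lt [Fintype (IrrCharacter (C P))] (ψ : IrrCharacter G) (hψ : (ψ : G → ℂ) ≠ 1)
    (b : ℝ) (hb : 0 ≤ b) (m : IrrCharacter (C P) → ℝ) (hm : ∀ η, 0 ≤ m η)
    (hdec : ∀ c : C P, (ψ : G → ℂ) c + b = ∑ η : IrrCharacter (C P), (m η : ℂ) * (η : C P → ℂ) c) :
    (∑ η : IrrCharacter (C P), m η ^ 2) - (∑ η : IrrCharacter (C P), m η) ^ 2 / Nat.card (P : Subgroup G) <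
      ((C P).relIndex (N P) : ℝ) * (1 + b ^ 2) := by
  classical
  obtain ⟨k, hk, hk'⟩ := exists_power hU
  set u : G → ℂ := fun g => (ψ : G → ℂ) g + b with hu
  have hu1 : ∑ g : G, Complex.normSq (u g) = (Nat.card G : ℝ) * (1 + b ^ 2) := by
    apply Complex.ofReal_injective
    push_cast
    have h := Char.card_mul_classInner u u
    rw [show u = (ψ : G → ℂ) + (b : ℂ) • (1 : G → ℂ) from funext fun g => by simp [hu],
      Char.classInner_add_left, Char.classInner_add_right, Char.classInner_add_right, Char.classInner_smul_left,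
      Char.classInner_smul_left, Char.classInner_smul_right, Char.classInner_smul_right,
      Char.classInner_irr_self ψ.2, Char.classInner_irr_self Char.isIrrCharacter_one,
      Char.classInner_irr_of_ne ψ.2 Char.isIrrCharacter_one hψ,
      Char.classInner_irr_of_ne Char.isIrrCharacter_one ψ.2 hψ.symm] at h
    simp only [Complex.mul_conj, Complex.conj_ofReal] at h
    rw [show (fun g => (ψ : G → ℂ) g + (b : ℂ)) = (ψ : G → ℂ) + (b : ℂ) • (1 : G → ℂ) from
      funext fun g => by simp] at *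
    simp only [Pi.add_apply, Pi.smul_apply, Pi.one_apply, smul_eq_mul, mul_one] at h ⊢
    rw [← h]
    ring
  have hpos : 0 < Complex.normSq (u 1) := by
    refine Complex.normSq_pos.mpr fun h => ?_
    have h0 : (charDegree (ψ : G → ℂ) : ℝ) + b = 0 := by
      apply Complex.ofReal_injective
      push_cast
      rw [← deg_eq ψ.2]
      exact h
    have h1 : 0 < charDegree (ψ : G → ℂ) := Nat.pos_of_ne_zero fun h =>
      Char.IsIrrCharacter.apply_one_ne_zero ψ.2 (by rw [deg_eq ψ.2, h, Nat.cast_zero])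
    have : (1 : ℝ) ≤ charDegree (ψ : G → ℂ) := by exact_mod_cast h1
    linarith
  have hle := sum_conj_le hU hk (u := u) fun g h => by
    simp only [hu]
    rw [char_conj ψ.2]
  have hsplit : ∑ c ∈ Finset.univ.filter (fun c : C P => (c : G) ^ k ≠ 1), Complex.normSq (u c) +
      ∑ c ∈ Finset.univ.filter (fun c : C P => (c : G) ^ k = 1), Complex.normSq (u c) =
      (Nat.card (C P) : ℝ) * ∑ η : IrrCharacter (C P), m η ^ 2 := by
    rw [← sum_normSq_eq, add_comm, Finset.sum_filter_add_sum_filter_not]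
    simp only [hu, hdec]
  have hV := sum_trivial_part_le hU hk hk' m hm
  simp only [← hdec] at hV
  have hG : (Nat.card G : ℝ) = (N P).index * ((C P).relIndex (N P) * Nat.card (C P)) := by
    rw [← Nat.cast_mul, ← card_N_eq, ← Nat.cast_mul, mul_comm, Subgroup.card_mul_index]
  rw [hu1, hG] at hle
  have hI : (0 : ℝ) < (N P).index := by exact_mod_cast Nat.pos_of_ne_zero (Subgroup.index_ne_zero_of_finite)
  have hC : (0 : ℝ) < Nat.card (C P) := by exact_mod_cast Nat.card_pos
  have hmul : ((N P).index : ℝ) * (Nat.card (C P) * ((∑ η : IrrCharacter (C P), m η ^ 2) -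
      (∑ η : IrrCharacter (C P), m η) ^ 2 / Nat.card (P : Subgroup G))) <
      ((N P).index : ℝ) * (Nat.card (C P) * (((C P).relIndex (N P) : ℝ) * (1 + b ^ 2))) := by
    calc ((N P).index : ℝ) * (Nat.card (C P) * ((∑ η : IrrCharacter (C P), m η ^ 2) -
          (∑ η : IrrCharacter (C P), m η) ^ 2 / Nat.card (P : Subgroup G)))
        = ((N P).index : ℝ) * ((Nat.card (C P) : ℝ) * (∑ η : IrrCharacter (C P), m η ^ 2) -
          (Nat.card (C P) : ℝ) / Nat.card (P : Subgroup G) * (∑ η : IrrCharacter (C P), m η) ^ 2) := by ring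
      _ ≤ ((N P).index : ℝ) * ∑ c ∈ Finset.univ.filter (fun c : C P => (c : G) ^ k ≠ 1), Complex.normSq (u c) := by
        refine mul_le_mul_of_nonneg_left ?_ hI.le
        simp only [hu] at hsplit ⊢
        linarith
      _ < _ := by linarith
  exact lt_of_mul_lt_mul_left (lt_of_mul_lt_mul_left hmul hI.le) hC.le

open scoped Classical in
/-- The normalizer orbit of a constituent nontrivial on `P`. -/
theorem exists_orbit (ψ : IrrCharacter G) {η : IrrCharacter (C P)} {y : G} (hy : y ∈ (P : Subgroup G))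
    (hne : (η : C P → ℂ) ⟨y, P_le_C hU hy⟩ ≠ (η : C P → ℂ) 1) :
    ∃ s : Finset (IrrCharacter (C P)), s.card = (C P).relIndex (N P) ∧
      (∀ φ ∈ s, classInner (fun c : C P => (ψ : G → ℂ) c) (φ : C P → ℂ) =
        classInner (fun c : C P => (ψ : G → ℂ) c) (η : C P → ℂ) ∧
        charDegree (φ : C P → ℂ) = charDegree (η : C P → ℂ)) ∧
      ∀ φ ∈ s, (φ : C P → ℂ) ≠ 1 := by
  classical
  haveI := Fintype.ofFinite (N P ⧸ (C P).subgroupOf (N P))
  let e : N P → (C P ≃* C P) := fun h =>
    { toFun := fun c => ⟨(h : G) * c * (h : G)⁻¹, conj_mem_C h.2 c.2⟩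
      invFun := fun c => ⟨(h : G)⁻¹ * c * h, by simpa using conj_mem_C (h := ((h : G)⁻¹)) (inv_mem h.2) c.2⟩
      left_inv := fun c => Subtype.ext (by simp [mul_assoc])
      right_inv := fun c => Subtype.ext (by simp [mul_assoc])
      map_mul' := fun a b => Subtype.ext (by simp [mul_assoc]) }
  let f : N P ⧸ (C P).subgroupOf (N P) → IrrCharacter (C P) := fun x =>
    ⟨fun c => (η : C P → ℂ) (e x.out c), Char.IsIrrCharacter.comp_equiv η.2 (e x.out)⟩
  have hinj : Function.Injective f := by
    intro x x' h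
    have hg : ∀ c : C P, (η : C P → ℂ) (e (x.out * x'.out⁻¹) c) = (η : C P → ℂ) c := by
      intro c
      have h' := congrFun (congrArg Subtype.val h) ((e x'.out).symm c)
      have e1 : e (x.out * x'.out⁻¹) c = e x.out ((e x'.out).symm c) := Subtype.ext (by
        show ((x.out * x'.out⁻¹ : N P) : G) * c * ((x.out * x'.out⁻¹ : N P) : G)⁻¹ =
          (x.out : G) * ((x'.out : G)⁻¹ * c * x'.out) * (x.out : G)⁻¹
        simp [mul_assoc])
      have e2 : e x'.out ((e x'.out).symm c) = c := (e x'.out).apply_symm_apply c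
      rw [e1]
      exact h'.trans (congrArg _ e2)
    set g := x.out * x'.out⁻¹ with hgdef
    have hgC : (g : G) ∈ C P := by
      by_contra hgC
      let φ : ↥(P : Subgroup G) → ↥(P : Subgroup G) := fun z =>
        ⟨(g : G) * z * (g : G)⁻¹ * (z : G)⁻¹, mul_mem ((Subgroup.mem_normalizer_iff.mp g.2 _).mp z.2) (inv_mem z.2)⟩
      have hφi : Function.Injective φ := by
        intro z z' hz
        have hzz : (g : G) * z * (g : G)⁻¹ * (z : G)⁻¹ = (g : G) * z' * (g : G)⁻¹ * (z' : G)⁻¹ := congrArg Subtype.val hz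
        by_contra hne'
        refine hgC (mem_C_of_conj_eq hU (z := (z' : G)⁻¹ * z) (mul_mem (inv_mem z'.2) z.2) ?_ ?_)
        · rw [Ne, inv_mul_eq_one]
          exact fun e => hne' (Subtype.ext e.symm)
        · have hcm : Commute (z : G) (z' : G) := (Subgroup.mem_centralizer_iff.mp (P_le_C hU z'.2) _ z.2)
          have h1 : ((g : G) * z' * (g : G)⁻¹)⁻¹ * ((g : G) * z * (g : G)⁻¹) = (z' : G)⁻¹ * z := by
            rw [show (g : G) * z * (g : G)⁻¹ = (g : G) * z' * (g : G)⁻¹ * (z' : G)⁻¹ * z from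
              eq_mul_of_mul_inv_eq hzz]
            group
          calc (g : G) * ((z' : G)⁻¹ * z) * (g : G)⁻¹ = ((g : G) * z' * (g : G)⁻¹)⁻¹ * ((g : G) * z * (g : G)⁻¹) := by group
            _ = _ := h1
      obtain ⟨z, hz⟩ := (Finite.injective_iff_surjective.mp hφi) ⟨y, hy⟩
      have hyeq : y = (g : G) * z * (g : G)⁻¹ * (z : G)⁻¹ := (congrArg Subtype.val hz).symm
      obtain ⟨s, -, hs⟩ := SecondMain.exists_central_scalar (z := (⟨y, P_le_C hU hy⟩ : C P))
        (Subgroup.mem_center_iff.mpr fun c => Subtype.ext (Subgroup.mem_centralizer_iff.mp c.2 _ hy).symm) η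
      obtain ⟨sz, hsz0, hsz⟩ := SecondMain.exists_central_scalar (z := (⟨z, P_le_C hU z.2⟩ : C P))
        (Subgroup.mem_center_iff.mpr fun c => Subtype.ext (Subgroup.mem_centralizer_iff.mp c.2 _ z.2).symm) η
      have h1 := hg ⟨z, P_le_C hU z.2⟩
      rw [show e g ⟨z, P_le_C hU z.2⟩ = ⟨y, P_le_C hU hy⟩ * ⟨z, P_le_C hU z.2⟩ from
        Subtype.ext (show (g : G) * z * (g : G)⁻¹ = y * z by rw [hyeq, inv_mul_cancel_right]), hs] at h1
      have hsz' := hsz 1
      rw [mul_one] at hsz'
      have hne0 : (η : C P → ℂ) ⟨z, P_le_C hU z.2⟩ ≠ 0 := by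
        rw [hsz']
        refine mul_ne_zero (fun h0 => ?_) (Char.IsIrrCharacter.apply_one_ne_zero η.2)
        rw [h0, zero_pow (orderOf_pos _).ne'] at hsz0
        exact zero_ne_one hsz0
      have hs1 : s = 1 := mul_right_cancel₀ hne0 (h1.trans (one_mul _).symm)
      refine hne ?_
      have h2 := hs 1
      rwa [mul_one, hs1, one_mul] at h2
    rw [← QuotientGroup.out_eq' x, ← QuotientGroup.out_eq' x', eq_comm, QuotientGroup.eq, Subgroup.mem_subgroupOf]
    have := conj_mem_C (h := ((x'.out : G))⁻¹) (inv_mem x'.out.2) hgC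
    simpa [hgdef, mul_assoc] using this
  refine ⟨Finset.univ.image f, ?_, ?_, ?_⟩
  · rw [Finset.card_image_of_injective _ hinj, Finset.card_univ, ← Nat.card_eq_fintype_card]
    rfl
  · intro φ hφ
    obtain ⟨x, -, rfl⟩ := Finset.mem_image.mp hφ
    refine ⟨?_, ?_⟩
    · have h := Char.classInner_comp_equiv (e x.out) (fun c : C P => (ψ : G → ℂ) c) (η : C P → ℂ)
      rw [show (fun c : C P => (ψ : G → ℂ) ((e x.out c : C P) : G)) = (fun c : C P => (ψ : G → ℂ) c) from
        funext fun c => char_conj ψ.2 _ _] at h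
      exact h
    · show charDegree (fun c => (η : C P → ℂ) (e x.out c)) = _
      rw [charDegree, charDegree, map_one]
  · intro φ hφ he
    obtain ⟨x, -, rfl⟩ := Finset.mem_image.mp hφ
    have h1 := congrFun he ((e x.out).symm ⟨y, P_le_C hU hy⟩)
    have h2 := congrFun he ((e x.out).symm 1)
    simp only [f, MulEquiv.apply_symm_apply] at h1 h2
    exact hne (h1.trans h2.symm)

end Cfsg.Agent.UniformCentralizer
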