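/-
A Sylow subgroup whose nonidentity elements all have the same centralizer: characters of small degree
(namespace `Cfsg.Agent.UniformCentralizer`).

Main results: `restrict_decomp`, `exists_nt`, `arith_contra`, `small_degree`.
-/
import Cfsg.Agent.Lib.UniformCentralizer.Variance
import Mathlib.GroupTheory.Transfer

set_option autoImplicit false
set_option linter.unusedSectionVars false
set_option linter.style.haveILetI false

open scoped ComplexConjugate

namespace Cfsg.Agent.UniformCentralizer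

open Cfsg Cfsg.Agent.TwoClassChar

theorem arith_contra {e f q t s W T : ℕ} (hq : q = t * e + 1) (he : 2 ≤ e) (hx : (e * f) * (e * f) + 2 ≤ q)
    (hf : 1 ≤ f) (hs : 1 ≤ s) (hW : s + e ≤ W) (hWx : W + 1 ≤ (e * f) * (e * f)) (hT : W + s * s ≤ T + s)
    (h1 : q * T < e * q + W * W)
    (h2 : e * e * q * T + 2 * e * s * q + q < (e * W + 1) * (e * W + 1) + (e * e * e + e) * q) : False := by
  have ht : e * (f * f) < t := by
    by_contra h
    have := Nat.mul_le_mul_right e (Nat.le_of_not_lt h)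
    nlinarith
  have hx' : (e * f) * (e * f) + e ≤ t * e := by
    have := Nat.mul_le_mul_right e ht
    nlinarith
  have hff : 1 ≤ f * f := Nat.mul_pos hf hf
  by_cases hcase : (e + 1) * (e + 1) ≤ q
  · have hss := Nat.le_mul_self s
    have h3 := Nat.mul_le_mul_left q (show W ≤ T by omega)
    nlinarith [mul_nonneg (show (0 : ℤ) ≤ (W : ℤ) - e - 1 by omega) (show (0 : ℤ) ≤ (q : ℤ) - W - e - 1 by omega)]
  · have hte : t = e + 1 := by
      by_contra h
      have h' : e + 2 ≤ t := by
        have : e + 1 ≤ t := by nlinarith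
        omega
      have := Nat.mul_le_mul_right e h'
      nlinarith
    have hf1 : f = 1 := by
      by_contra h
      have h' : 4 ≤ f * f := Nat.mul_le_mul (show 2 ≤ f by omega) (show 2 ≤ f by omega)
      have := Nat.mul_le_mul_left e h'
      omega
    subst hte hf1
    simp only [mul_one] at hx hWx hx'
    rcases Nat.lt_or_ge s 2 with hs2 | hs2
    · obtain rfl : s = 1 := by omega
      rcases Nat.lt_or_ge W (e + 2) with hW2 | hW2
      · obtain rfl : W = e + 1 := by omega
        have h3 := Nat.mul_le_mul_left (e * e * q) (show e + 1 ≤ T by omega)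
        subst hq
        nlinarith
      · have he3 : 3 ≤ e := by
          by_contra h
          obtain rfl : e = 2 := by omega
          omega
        have h3 := Nat.mul_le_mul_left q (show W ≤ T by omega)
        subst hq
        nlinarith [mul_nonneg (show (0 : ℤ) ≤ (W : ℤ) - e - 2 by omega)
          (show (0 : ℤ) ≤ ((e : ℤ) * e + e + 1) - W - e - 2 by nlinarith)]
    · have hss : 2 * s ≤ s * s := Nat.mul_le_mul_right s hs2
      have h3 := Nat.mul_le_mul_left q (show W + 2 ≤ T by omega)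
      subst hq
      nlinarith [mul_nonneg (show (0 : ℤ) ≤ (W : ℤ) - e - 1 by omega)
          (show (0 : ℤ) ≤ ((e : ℤ) * e + e + 1) - W - e - 1 by nlinarith)]

variable {G : Type*} [Group G] [Fintype G] {p : ℕ} [Fact p.Prime] {P : Sylow p G}

open scoped Classical in
/-- The decomposition of a restriction to the centralizer. -/
theorem restrict_decomp [Fintype (IrrCharacter (C P))] (ψ : IrrCharacter G) :
    ∃ m : IrrCharacter (C P) → ℕ,
      (∀ c : C P, (ψ : G → ℂ) c = ∑ η : IrrCharacter (C P), (m η : ℂ) * (η : C P → ℂ) c) ∧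
      (∀ η : IrrCharacter (C P), classInner (fun c : C P => (ψ : G → ℂ) c) (η : C P → ℂ) = (m η : ℂ)) ∧
      charDegree (ψ : G → ℂ) = (∑ η : IrrCharacter (C P), m η * charDegree (η : C P → ℂ)) ∧
      (∑ η : IrrCharacter (C P), m η) ≤ charDegree (ψ : G → ℂ) := by
  obtain ⟨m, hm, hmi⟩ := Char.IsCharacter.decompose
    (Char.IsCharacter.restrict (Char.IsIrrCharacter.isCharacter ψ.2) (C P))
  have hm' : ∀ c : C P, (ψ : G → ℂ) c = ∑ η : IrrCharacter (C P), (m η : ℂ) * (η : C P → ℂ) c := by
    intro c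
    have := congrFun hm c
    simp only [Finset.sum_apply, Pi.smul_apply, smul_eq_mul] at this
    exact this
  have hdeg : charDegree (ψ : G → ℂ) = (∑ η : IrrCharacter (C P), m η * charDegree (η : C P → ℂ)) := by
    apply Nat.cast_injective (R := ℂ)
    rw [← deg_eq ψ.2, Nat.cast_sum]
    have h := hm' 1
    rw [OneMemClass.coe_one] at h
    rw [h]
    exact Finset.sum_congr rfl fun η _ => by rw [Nat.cast_mul, ← deg_eq η.2]
  refine ⟨m, hm', hmi, hdeg, ?_⟩
  rw [hdeg]
  refine Finset.sum_le_sum fun η _ => Nat.le_mul_of_pos_right _ (Nat.pos_of_ne_zero fun h => ?_)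
  exact Char.IsIrrCharacter.apply_one_ne_zero η.2 (by rw [deg_eq η.2, h, Nat.cast_zero])

variable (hK : ∀ K : Subgroup G, K.Normal → (P : Subgroup G) ≤ K → K = ⊤)
include hK

theorem not_le_kerSub (ψ : IrrCharacter G) (hψ : (ψ : G → ℂ) ≠ 1) : ¬ (P : Subgroup G) ≤ Codegree.kerSub ψ := by
  intro h
  have ht := hK _ (Codegree.kerSub_normal ψ) h
  have hc : ∀ g, (ψ : G → ℂ) g = (ψ : G → ℂ) 1 := fun g =>
    Codegree.mem_kerSub.mp (ht ▸ Subgroup.mem_top g)
  have h0 := Char.classInner_irr_of_ne ψ.2 Char.isIrrCharacter_one hψ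
  rw [classInner] at h0
  simp only [hc, Pi.one_apply, map_one, mul_one, Finset.sum_const, Finset.card_univ, nsmul_eq_mul] at h0
  rw [Nat.card_eq_fintype_card, inv_mul_cancel_left₀ (Nat.cast_ne_zero.mpr Fintype.card_ne_zero)] at h0
  exact Char.IsIrrCharacter.apply_one_ne_zero ψ.2 h0

variable (hU : Uni P)
include hU

/-- A nonprincipal character has a constituent on the centralizer which is nontrivial on `P`. -/
theorem exists_nt [Fintype (IrrCharacter (C P))] (ψ : IrrCharacter G) (hψ : (ψ : G → ℂ) ≠ 1)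
    {m : IrrCharacter (C P) → ℕ}
    (hm : ∀ c : C P, (ψ : G → ℂ) c = ∑ η : IrrCharacter (C P), (m η : ℂ) * (η : C P → ℂ) c) :
    ∃ (η : IrrCharacter (C P)) (y : G) (hy : y ∈ (P : Subgroup G)), m η ≠ 0 ∧
      (η : C P → ℂ) ⟨y, P_le_C hU hy⟩ ≠ (η : C P → ℂ) 1 := by
  obtain ⟨y, hy, hne⟩ := SetLike.not_le_iff_exists.mp (not_le_kerSub hK ψ hψ)
  by_contra hcon
  push Not at hcon
  refine hne (Codegree.mem_kerSub.mpr ?_)
  have h1 := hm ⟨y, P_le_C hU hy⟩
  have h2 := hm 1
  rw [OneMemClass.coe_one] at h2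
  rw [show (ψ : G → ℂ) y = (ψ : G → ℂ) ((⟨y, P_le_C hU hy⟩ : C P) : G) from rfl, h1, h2]
  refine Finset.sum_congr rfl fun η _ => ?_
  by_cases h : m η = 0
  · rw [h, Nat.cast_zero, zero_mul, zero_mul]
  · rw [hcon η y hy h]

set_option maxHeartbeats 800000 in
open scoped Classical in
/-- A nonprincipal character of small degree is linear, and the normalizer centralizes. -/
theorem small_degree (χ : IrrCharacter G) (h1 : (χ : G → ℂ) ≠ 1)
    (hdeg : charDegree (χ : G → ℂ) ^ 2 + 1 < Nat.card (P : Subgroup G)) :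
    charDegree (χ : G → ℂ) = 1 ∧ (C P).relIndex (N P) = 1 := by
  haveI := Fintype.ofFinite (IrrCharacter (C P))
  haveI := Fintype.ofFinite (IrrCharacter G)
  set x := charDegree (χ : G → ℂ) with hxdef
  set e := (C P).relIndex (N P) with hedef
  set q := Nat.card (P : Subgroup G) with hqdef
  have he0 : 0 < e := relIndex_pos
  obtain ⟨m, hm, hmi, hmdeg, hW⟩ := restrict_decomp (P := P) χ
  obtain ⟨η, y, hy, hη0, hηy⟩ := exists_nt hK hU χ h1 hm
  obtain ⟨S, hScard, hS, -⟩ := exists_orbit hU χ hy hηy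
  have hmS : ∀ φ ∈ S, m φ = m η := fun φ hφ => by
    have := (hS φ hφ).1
    rw [hmi, hmi] at this
    exact_mod_cast this
  have hWge : e * m η ≤ ∑ φ, m φ := by
    calc e * m η = ∑ φ ∈ S, m φ := by rw [Finset.sum_congr rfl hmS, Finset.sum_const, hScard, smul_eq_mul]
      _ ≤ _ := Finset.sum_le_sum_of_subset (Finset.subset_univ S)
  -- the variance inequality for `χ`
  have hvar := variance_lt hU χ h1 0 le_rfl (fun φ => (m φ : ℝ)) (fun φ => Nat.cast_nonneg _) (fun c => by
    rw [Complex.ofReal_zero, add_zero, hm c]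
    exact Finset.sum_congr rfl fun φ _ => by rw [Complex.ofReal_natCast])
  rw [zero_pow two_ne_zero, add_zero, mul_one, ← hqdef, ← hedef] at hvar
  set W := ∑ φ, m φ with hWdef
  have hWe : W = e := by
    by_contra hne
    have hge : e + 1 ≤ W := by
      have := Nat.mul_le_mul_left e (Nat.one_le_iff_ne_zero.mpr hη0)
      omega
    have hWsq : W ≤ ∑ φ, m φ ^ 2 := Finset.sum_le_sum fun φ _ => Nat.le_self_pow two_ne_zero _
    have hWq : W ^ 2 + 2 ≤ q := by
      have h2 : W ^ 2 ≤ x ^ 2 := Nat.pow_le_pow_left hW 2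
      have h5 : x ^ 2 + 1 < q := hdeg
      omega
    have hqR : (0 : ℝ) < (q : ℝ) := by exact_mod_cast Nat.lt_of_lt_of_le (Nat.succ_pos 1) (le_trans (Nat.le_add_left 2 _) hWq)
    have hlt : (W : ℝ) ^ 2 / q < 1 := by
      rw [div_lt_one hqR]
      exact_mod_cast (show W ^ 2 < q by omega)
    have h3 : (W : ℝ) ≤ ∑ φ, (m φ : ℝ) ^ 2 := by exact_mod_cast hWsq
    have h4 : (e : ℝ) + 1 ≤ W := by exact_mod_cast hge
    rw [show (∑ φ, (m φ : ℝ)) = (W : ℝ) by rw [hWdef]; push_cast; rfl] at hvar
    linarith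
  have hη1 : m η = 1 := by
    have : e * m η ≤ e * 1 := by omega
    have := Nat.le_of_mul_le_mul_left this he0
    omega
  have hout : ∀ φ, φ ∉ S → m φ = 0 := by
    intro φ hφ
    have h := Finset.sum_sdiff (Finset.subset_univ S) (f := m)
    rw [← hWdef, hWe, Finset.sum_congr rfl hmS, Finset.sum_const, hScard, hη1, smul_eq_mul, mul_one] at h
    exact Finset.sum_eq_zero_iff.mp (by omega : ∑ φ ∈ Finset.univ \ S, m φ = 0) φ
      (Finset.mem_sdiff.mpr ⟨Finset.mem_univ _, hφ⟩)
  have hxf : x = e * charDegree (η : C P → ℂ) := by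
    rw [show x = ∑ φ, m φ * charDegree ((φ : IrrCharacter (C P)) : C P → ℂ) from hmdeg, ← Finset.sum_subset (Finset.subset_univ S) (fun φ _ h => by rw [hout φ h, zero_mul]),
      Finset.sum_congr rfl (g := fun _ => charDegree (η : C P → ℂ)) fun φ hφ => by rw [hmS φ hφ, hη1, one_mul, (hS φ hφ).2],
      Finset.sum_const, hScard, smul_eq_mul]
  have hsq : ∑ φ, m φ ^ 2 = e := by
    rw [← Finset.sum_subset (Finset.subset_univ S) (fun φ _ h => by rw [hout φ h]; rfl),
      Finset.sum_congr rfl (g := fun _ => 1) fun φ hφ => by rw [hmS φ hφ, hη1, one_pow],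
      Finset.sum_const, hScard, smul_eq_mul, mul_one]
  -- the square of `χ`
  set Φ : G → ℂ := fun g => (χ : G → ℂ) g * conj ((χ : G → ℂ) g) with hΦ
  have hΦc : IsCharacter G Φ :=
    Char.IsCharacter.mul (Char.IsIrrCharacter.isCharacter χ.2) (Char.IsCharacter.conj (Char.IsIrrCharacter.isCharacter χ.2))
  obtain ⟨n, hn, hni⟩ := Char.IsCharacter.decompose hΦc
  set one : IrrCharacter G := ⟨1, Char.isIrrCharacter_one⟩ with hone
  have hn1 : n one = 1 := by
    apply Nat.cast_injective (R := ℂ)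
    rw [← hni, Nat.cast_one, ← Char.classInner_irr_self χ.2, classInner, classInner]
    simp [hΦ, hone]
  have hΦdeg : x * x = ∑ ψ, n ψ * charDegree ((ψ : IrrCharacter G) : G → ℂ) := by
    apply Nat.cast_injective (R := ℂ)
    have h := congrFun hn 1
    simp only [Finset.sum_apply, Pi.smul_apply, smul_eq_mul, hΦ] at h
    rw [deg_eq χ.2, Complex.conj_natCast] at h
    push_cast
    rw [h]
    exact Finset.sum_congr rfl fun ψ _ => by rw [← deg_eq ψ.2]
  rcases Nat.lt_or_ge e 2 with he2 | he2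
  · -- trivial action
    have he1 : e = 1 := by omega
    refine ⟨?_, he1⟩
    obtain ⟨φ₀, hφ₀⟩ := Finset.card_eq_one.mp (hScard.trans he1)
    have hres : ∀ c : C P, (χ : G → ℂ) c = (φ₀ : C P → ℂ) c := fun c => by
      rw [hm c, Finset.sum_eq_single φ₀ (fun φ _ h => by rw [hout φ (by simp [hφ₀, h]), Nat.cast_zero, zero_mul])
        (fun h => absurd (Finset.mem_univ _) h), hmS φ₀ (by simp [hφ₀]), hη1, Nat.cast_one, one_mul]
    have hker : ∀ ψ : IrrCharacter G, n ψ ≠ 0 → (P : Subgroup G) ≤ Codegree.kerSub ψ := by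
      intro ψ hψn z hz
      obtain ⟨sc, hsc0, hsc⟩ := SecondMain.exists_central_scalar (z := (⟨z, P_le_C hU hz⟩ : C P))
        (Subgroup.mem_center_iff.mpr fun c => Subtype.ext (Subgroup.mem_centralizer_iff.mp c.2 _ hz).symm) φ₀
      have hval : Φ z = (x : ℂ) * x := by
        have h := hsc 1
        rw [mul_one, ← hres, ← hres, OneMemClass.coe_one, deg_eq χ.2] at h
        show (χ : G → ℂ) z * conj ((χ : G → ℂ) z) = _
        rw [show (χ : G → ℂ) z = sc * (x : ℂ) from h, map_mul, Complex.conj_natCast, mul_mul_mul_comm, Complex.mul_conj,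
          Complex.normSq_eq_norm_sq, Complex.norm_eq_one_of_pow_eq_one hsc0 (orderOf_pos _).ne', one_pow,
          Complex.ofReal_one, one_mul]
      have hre : ∀ φ : IrrCharacter G, ((φ : G → ℂ) z).re ≤ charDegree (φ : G → ℂ) := fun φ => by
        refine (Complex.re_le_norm _).trans ((Char.IsCharacter.norm_le (Char.IsIrrCharacter.isCharacter φ.2) z).trans ?_)
        rw [deg_eq φ.2, Complex.natCast_re]
      have hsum : ∑ φ, (n φ : ℝ) * ((φ : G → ℂ) z).re = ∑ φ, (n φ : ℝ) * charDegree ((φ : IrrCharacter G) : G → ℂ) := by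
        have h := congrArg Complex.re ((congrFun hn z).symm.trans hval)
        simp only [Finset.sum_apply, Pi.smul_apply, smul_eq_mul, Complex.re_sum, Complex.mul_re, Complex.natCast_re,
          Complex.natCast_im, zero_mul, sub_zero] at h
        rw [h]
        exact_mod_cast hΦdeg
      have heq := (Finset.sum_eq_sum_iff_of_le fun φ _ => mul_le_mul_of_nonneg_left (hre φ) (Nat.cast_nonneg _)).mp hsum ψ
        (Finset.mem_univ ψ)
      have hre' := mul_left_cancel₀ (Nat.cast_ne_zero.mpr hψn) heq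
      have hnorm : ‖(ψ : G → ℂ) z‖ ≤ charDegree (ψ : G → ℂ) := by
        refine (Char.IsCharacter.norm_le (Char.IsIrrCharacter.isCharacter ψ.2) z).trans ?_
        rw [deg_eq ψ.2, Complex.natCast_re]
      have him : ((ψ : G → ℂ) z).im = 0 := by
        have h1 := Complex.normSq_eq_norm_sq ((ψ : G → ℂ) z)
        rw [Complex.normSq_apply, hre'] at h1
        have h2 := pow_le_pow_left₀ (norm_nonneg _) hnorm 2
        exact mul_self_eq_zero.mp (le_antisymm (by nlinarith) (mul_self_nonneg _))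
      exact Codegree.mem_kerSub.mpr (by rw [deg_eq ψ.2]; exact Complex.ext (by rw [hre', Complex.natCast_re]) (by rw [him, Complex.natCast_im]))
    rw [Finset.sum_eq_single one (fun ψ _ h => by
      rw [show n ψ = 0 from by_contra fun hn0 => not_le_kerSub hK ψ (fun e => h (Subtype.ext e)) (hker ψ hn0), zero_mul])
      (fun h => absurd (Finset.mem_univ _) h), hn1, one_mul,
      show charDegree (one : G → ℂ) = 1 from Nat.cast_injective (R := ℂ) (by rw [← deg_eq Char.isIrrCharacter_one]; simp)] at hΦdeg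
    exact Nat.eq_one_of_mul_eq_one_right hΦdeg
  · exfalso
    set oneC : IrrCharacter (C P) := ⟨1, Char.isIrrCharacter_one⟩ with honeC
    -- some other constituent contains the principal character of the centralizer
    have hΦ1 : classInner (fun c : C P => Φ c) (oneC : C P → ℂ) = (e : ℂ) := by
      have h := sum_normSq_eq (H := C P) (fun φ => (m φ : ℝ))
      simp only [Complex.ofReal_natCast, ← hm] at h
      rw [classInner]
      simp only [hΦ, honeC, Pi.one_apply, map_one, mul_one, Complex.mul_conj]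
      rw [← Complex.ofReal_sum, h, show (∑ φ, (m φ : ℝ) ^ 2) = (e : ℝ) by exact_mod_cast hsq]
      push_cast
      rw [inv_mul_cancel_left₀ (Nat.cast_ne_zero.mpr Nat.card_pos.ne')]
    obtain ⟨ψ, hψ1, hψn, hψC⟩ : ∃ ψ : IrrCharacter G, ψ ≠ one ∧ n ψ ≠ 0 ∧
        classInner (fun c : C P => (ψ : G → ℂ) c) (oneC : C P → ℂ) ≠ 0 := by
      by_contra hcon
      push Not at hcon
      have h : (fun c : C P => Φ c) = ∑ ψ, (n ψ : ℂ) • fun c : C P => ((ψ : IrrCharacter G) : G → ℂ) c := by
        funext c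
        rw [hn]
        simp only [Finset.sum_apply, Pi.smul_apply]
      rw [h, Char.classInner_sum_left, Finset.sum_eq_single one (fun ψ _ hψ => ?_)
        (fun h => absurd (Finset.mem_univ _) h), Char.classInner_smul_left, hn1, Nat.cast_one, one_mul,
        show (fun c : C P => (one : G → ℂ) c) = (oneC : C P → ℂ) from rfl, Char.classInner_irr_self oneC.2] at hΦ1
      · exact absurd (Nat.cast_injective (R := ℂ) (hΦ1.symm.trans Nat.cast_one.symm)) (by omega)
      · rw [Char.classInner_smul_left]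
        by_cases h0 : n ψ = 0
        · rw [h0, Nat.cast_zero, zero_mul]
        · rw [hcon ψ hψ h0, mul_zero]
    have hψ' : (ψ : G → ℂ) ≠ 1 := fun h => hψ1 (Subtype.ext h)
    obtain ⟨k, hk, hki, -, hkW⟩ := restrict_decomp (P := P) ψ
    obtain ⟨η', y', hy', hη'0, hη'y⟩ := exists_nt hK hU ψ hψ' hk
    obtain ⟨S', hS'card, hS', hS'1⟩ := exists_orbit hU ψ hy' hη'y
    have hkS : ∀ φ ∈ S', k φ = k η' := fun φ hφ => by
      have := (hS' φ hφ).1
      rw [hki, hki] at this
      exact_mod_cast this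
    set s := k oneC with hsdef
    have hs : 1 ≤ s := Nat.one_le_iff_ne_zero.mpr fun h => hψC (by rw [hki, ← hsdef, h, Nat.cast_zero])
    have hW' : s + e ≤ ∑ φ, k φ := by
      refine le_trans ?_ (Finset.sum_le_sum_of_subset (Finset.subset_univ (insert oneC S')))
      rw [Finset.sum_insert (fun h => hS'1 oneC h rfl), Finset.sum_congr rfl hkS, Finset.sum_const, hS'card, smul_eq_mul]
      exact Nat.add_le_add_left (Nat.le_mul_of_pos_right _ (Nat.pos_of_ne_zero hη'0)) _
    have hTW : (∑ φ, k φ) + s * s ≤ (∑ φ, k φ ^ 2) + s := by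
      rw [← Finset.add_sum_erase _ _ (Finset.mem_univ oneC), ← Finset.add_sum_erase _ (fun φ => k φ ^ 2) (Finset.mem_univ oneC)]
      simp only [← hsdef]
      have : ∑ φ ∈ Finset.univ.erase oneC, k φ ≤ ∑ φ ∈ Finset.univ.erase oneC, k φ ^ 2 :=
        Finset.sum_le_sum fun φ _ => Nat.le_self_pow two_ne_zero _
      rw [pow_two s]
      omega
    have hψd : charDegree (ψ : G → ℂ) + 1 ≤ x * x := by
      rw [hΦdeg, ← Finset.add_sum_erase _ _ (Finset.mem_univ one), hn1, one_mul,
        show charDegree (one : G → ℂ) = 1 from Nat.cast_injective (R := ℂ) (by rw [← deg_eq Char.isIrrCharacter_one]; simp),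
        add_comm 1 _]
      refine Nat.add_le_add_right (le_trans (Nat.le_mul_of_pos_left _ (Nat.pos_of_ne_zero hψn)) ?_) 1
      exact Finset.single_le_sum (f := fun φ => n φ * charDegree ((φ : IrrCharacter G) : G → ℂ)) (fun _ _ => Nat.zero_le _)
        (Finset.mem_erase.mpr ⟨hψ1, Finset.mem_univ ψ⟩)
    obtain ⟨t, ht⟩ := relIndex_dvd hU
    have hq : q = t * e + 1 := by
      rw [hqdef, hedef, mul_comm, ← ht]
      have : 0 < Nat.card (P : Subgroup G) := Nat.card_pos
      omega
    have hqR : (0 : ℝ) < (q : ℝ) := by exact_mod_cast (show 0 < q by omega)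
    have heR : (0 : ℝ) < (e : ℝ) := by exact_mod_cast he0
    -- the two inequalities
    have hA := variance_lt hU ψ hψ' 0 le_rfl (fun φ => (k φ : ℝ)) (fun φ => Nat.cast_nonneg _) (fun c => by
      rw [Complex.ofReal_zero, add_zero, hk c]
      exact Finset.sum_congr rfl fun φ _ => by rw [Complex.ofReal_natCast])
    have hB := variance_lt hU ψ hψ' (1 / e) (by positivity)
      (fun φ => (k φ : ℝ) + if φ = oneC then 1 / (e : ℝ) else 0) (fun φ => by positivity) (fun c => by
        simp only [Complex.ofReal_add, Complex.ofReal_natCast, add_mul, Finset.sum_add_distrib, ← hk c,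
          apply_ite Complex.ofReal, Complex.ofReal_zero, ite_mul, zero_mul, Finset.sum_ite_eq', Finset.mem_univ, if_true]
        rw [show (oneC : C P → ℂ) c = 1 from rfl, mul_one])
    rw [← hqdef, ← hedef] at hA hB
    have hB1 : ∑ φ, ((k φ : ℝ) + if φ = oneC then 1 / (e : ℝ) else 0) = (∑ φ, (k φ : ℝ)) + 1 / e := by
      rw [Finset.sum_add_distrib, Finset.sum_ite_eq', if_pos (Finset.mem_univ _)]
    have hB2 : ∑ φ, ((k φ : ℝ) + if φ = oneC then 1 / (e : ℝ) else 0) ^ 2 =
        (∑ φ, (k φ : ℝ) ^ 2) + (2 * (s : ℝ) / e + 1 / e ^ 2) := by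
      rw [Finset.sum_congr rfl (g := fun φ => (k φ : ℝ) ^ 2 + if φ = oneC then 2 * (k φ : ℝ) / e + 1 / e ^ 2 else 0)
        fun φ _ => by split_ifs <;> ring, Finset.sum_add_distrib, Finset.sum_ite_eq', if_pos (Finset.mem_univ _), hsdef]
    rw [hB1, hB2] at hB
    set W' := ∑ φ, k φ with hW'def
    set T := ∑ φ, k φ ^ 2 with hTdef
    have eW : ∑ φ, (k φ : ℝ) = (W' : ℝ) := by rw [hW'def]; push_cast; rfl
    have eT : ∑ φ, (k φ : ℝ) ^ 2 = (T : ℝ) := by rw [hTdef]; push_cast; rfl
    rw [eW, eT] at hA hB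
    refine arith_contra (f := charDegree (η : C P → ℂ)) (s := s) (W := W') (T := T) hq he2 ?_ ?_ hs hW' ?_ hTW ?_ ?_
    · rw [← hxf, ← pow_two]; omega
    · refine Nat.pos_of_ne_zero fun h => ?_
      exact Char.IsIrrCharacter.apply_one_ne_zero η.2 (by rw [deg_eq η.2, h, Nat.cast_zero])
    · rw [← hxf]; omega
    · have h : (q : ℝ) * T < e * q + (W' : ℝ) * W' := by
        have h' := mul_lt_mul_of_pos_left hA hqR
        rw [mul_sub, mul_div_cancel₀ _ hqR.ne'] at h'
        nlinarith
      exact_mod_cast h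
    · have h : (e : ℝ) * e * q * T + 2 * e * s * q + q < (e * W' + 1) * (e * W' + 1) + (e * e * e + e) * q := by
        have h' := mul_lt_mul_of_pos_left hB (show (0 : ℝ) < e * e * q by positivity)
        have e1 : (e : ℝ) * e * q * ((T : ℝ) + (2 * s / e + 1 / e ^ 2) - ((W' : ℝ) + 1 / e) ^ 2 / q) =
            e * e * q * T + 2 * e * s * q + q - (e * W' + 1) * (e * W' + 1) := by field_simp; ring
        have e2 : (e : ℝ) * e * q * ((e : ℝ) * (1 + (1 / e) ^ 2)) = (e * e * e + e) * q := by field_simp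
        rw [e1, e2] at h'
        linarith
      exact_mod_cast h

end Cfsg.Agent.UniformCentralizer
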