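/-
A Sylow subgroup whose nonidentity elements all have the same centralizer: consequences
(namespace `Cfsg.Agent.UniformCentralizer`).

Main results: `exists_complement`, `normal_of_faithful`.
-/
import Cfsg.Agent.Lib.UniformCentralizer.Main
import Cfsg.Agent.Lib.Char.Linear
import Mathlib.GroupTheory.GroupAction.ConjAct

set_option autoImplicit false
set_option linter.unusedSectionVars false
set_option linter.style.haveILetI false

namespace Cfsg.Agent.UniformCentralizer

open Cfsg Cfsg.Agent.TwoClassChar

universe u

theorem exists_complement {G : Type*} [Group G] [Finite G] {p : ℕ} [Fact p.Prime] (P : Sylow p G)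
    (he : (C P).relIndex (N P) = 1) : ∃ Q : Subgroup G, Q.Normal ∧ Q.index = Nat.card (P : Subgroup G) :=
  ⟨_, inferInstance, (MonoidHom.ker_transferSylow_isComplement' P (Subgroup.relIndex_eq_one.mp he)).symm.index_eq_card⟩

theorem normal_aux {p : ℕ} [Fact p.Prime] (k : ℕ) : ∀ (G : Type u) [Group G] [Finite G], Nat.card G = k →
    ∀ (P : Sylow p G), Uni P → ∀ χ : G → ℂ, IsCharacter G χ → (∀ g : G, χ g = χ 1 → g = 1) →
      charDegree χ ^ 2 + 1 < Nat.card (P : Subgroup G) → (P : Subgroup G).Normal := by
  induction k using Nat.strong_induction_on with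
  | _ k ih =>
    intro G _ _ hk P hU χ hχ hfaith hdeg
    classical
    haveI := Fintype.ofFinite G
    haveI := Fintype.ofFinite (IrrCharacter G)
    by_cases hex : ∃ K : Subgroup G, K.Normal ∧ (P : Subgroup G) ≤ K ∧ K ≠ ⊤
    · obtain ⟨K, hKn, hPK, hKt⟩ := hex
      have hlt : Nat.card K < k := hk ▸ lt_of_le_of_ne K.card_le_card_group fun h => hKt (Subgroup.card_eq_iff_eq_top K |>.mp h)
      have hUK : Uni (P.subtype hPK) := by
        intro y hy hy1
        rw [Sylow.coe_subtype, Subgroup.mem_subgroupOf] at hy
        have h := hU (y : G) hy (fun e => hy1 (Subtype.ext e))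
        ext c
        rw [Subgroup.mem_centralizer_singleton_iff, Subgroup.mem_centralizer_iff]
        constructor
        · intro hc z hz
          rw [SetLike.mem_coe, Sylow.coe_subtype, Subgroup.mem_subgroupOf] at hz
          have hc' : (c : G) ∈ Subgroup.centralizer ({(y : G)} : Set G) :=
            Subgroup.mem_centralizer_singleton_iff.mpr (congrArg Subtype.val hc :)
          rw [h] at hc'
          exact Subtype.ext (Subgroup.mem_centralizer_iff.mp hc' _ hz)
        · intro hc
          exact (hc y (by rw [SetLike.mem_coe, Sylow.coe_subtype, Subgroup.mem_subgroupOf]; exact hy)).symm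
      have hnK := ih _ hlt K rfl (P.subtype hPK) hUK (fun c => χ c) (Char.IsCharacter.restrict hχ K)
        (fun c hc => Subtype.ext (hfaith c (by simpa using hc))) (by
          rw [Sylow.coe_subtype, Nat.card_congr (Subgroup.subgroupOfEquivOfLe hPK).toEquiv]
          simpa [charDegree] using hdeg)
      haveI := hnK
      haveI := Sylow.characteristic_of_normal (P.subtype hPK) hnK
      have h := ConjAct.normal_of_characteristic_of_normal (H := K) (K := (P.subtype hPK : Subgroup K))
      rwa [Sylow.coe_subtype, Subgroup.map_subgroupOf_eq_of_le hPK] at h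
    · push Not at hex
      obtain ⟨n, hn, -⟩ := Char.IsCharacter.decompose hχ
      have hval : ∀ g, χ g = ∑ φ : IrrCharacter G, (n φ : ℂ) * (φ : G → ℂ) g := fun g => by
        have := congrFun hn g
        simp only [Finset.sum_apply, Pi.smul_apply, smul_eq_mul] at this
        exact this
      have hdeg' : charDegree χ = ∑ φ : IrrCharacter G, n φ * charDegree (φ : G → ℂ) := by
        obtain ⟨d, hd⟩ := Char.IsCharacter.exists_degree hχ
        apply Nat.cast_injective (R := ℂ)
        rw [show (charDegree χ : ℂ) = χ 1 by rw [charDegree, hd, Complex.natCast_re, Nat.floor_natCast], hval,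
          Nat.cast_sum]
        exact Finset.sum_congr rfl fun φ _ => by rw [Nat.cast_mul, ← deg_eq φ.2]
      have hlin : ∀ φ : IrrCharacter G, n φ ≠ 0 → charDegree (φ : G → ℂ) = 1 := by
        intro φ hφ
        by_cases h1 : (φ : G → ℂ) = 1
        · apply Nat.cast_injective (R := ℂ)
          rw [← deg_eq φ.2, h1]
          simp
        refine (small_degree hex hU φ h1 ?_).1
        have hle : charDegree (φ : G → ℂ) ≤ charDegree χ := hdeg' ▸
          le_trans (Nat.le_mul_of_pos_left _ (Nat.pos_of_ne_zero hφ))
            (Finset.single_le_sum (f := fun φ : IrrCharacter G => n φ * charDegree (φ : G → ℂ)) (fun _ _ => Nat.zero_le _) (Finset.mem_univ φ))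
        have := Nat.pow_le_pow_left hle 2
        omega
      have hcomm : ∀ a b : G, a * b = b * a := by
        intro a b
        have h : a * b * a⁻¹ * b⁻¹ = 1 := by
          refine hfaith _ ?_
          rw [hval, hval]
          refine Finset.sum_congr rfl fun φ _ => ?_
          by_cases hφ : n φ = 0
          · rw [hφ, Nat.cast_zero, zero_mul, zero_mul]
          obtain ⟨l, hl⟩ := Char.exists_hom_of_degree_one (Char.IsIrrCharacter.isCharacter φ.2)
            (by rw [deg_eq φ.2, hlin φ hφ, Nat.cast_one])
          rw [← hl]
          simp only [map_mul, map_one]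
          have ha : l a * l a⁻¹ = 1 := by rw [← map_mul, mul_inv_cancel, map_one]
          have hb : l b * l b⁻¹ = 1 := by rw [← map_mul, mul_inv_cancel, map_one]
          linear_combination (n φ : ℂ) * (l b * l b⁻¹) * ha + (n φ : ℂ) * hb
        calc a * b = (a * b * a⁻¹ * b⁻¹) * (b * a) := by group
          _ = b * a := by rw [h, one_mul]
      exact ⟨fun y hy g => by rw [hcomm g y, mul_inv_cancel_right]; exact hy⟩

theorem normal_of_faithful {G : Type u} [Group G] [Finite G] {p : ℕ} [Fact p.Prime] (P : Sylow p G) (hU : Uni P)
    (χ : G → ℂ) (hχ : IsCharacter G χ) (hfaith : ∀ g : G, χ g = χ 1 → g = 1)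
    (hdeg : charDegree χ ^ 2 + 1 < Nat.card (P : Subgroup G)) : (P : Subgroup G).Normal :=
  normal_aux _ G rfl P hU χ hχ hfaith hdeg

end Cfsg.Agent.UniformCentralizer
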